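import Groth.Agent.LocalDimBC.Smooth
import Groth.Agent.CMChart.OverField
import Groth.Agent.S1618

/-!
A smooth irreducible scheme of dimension `n` over a field is smooth of relative dimension `n`.
-/

set_option autoImplicit false
set_option linter.style.haveILetI false
set_option backward.isDefEq.respectTransparency false
set_option backward.isDefEq.respectTransparency.types false

universe u

open CategoryTheory CategoryTheory.Limits AlgebraicGeometry TopologicalSpace Opposite

noncomputable section

namespace Groth.Agent.SectRank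

theorem localDim_eq_dim {k : Type u} [Field k] {X : Scheme.{u}} [IrreducibleSpace X]
    (p : X ⟶ Spec (CommRingCat.of k)) [LocallyOfFiniteType p] (x : X) :
    FlatMor.localDim X x = topologicalKrullDim X := by
  letI : X.Over (Spec (CommRingCat.of k)) := ⟨p⟩
  haveI : LocallyOfFiniteType (X ↘ Spec (CommRingCat.of k)) := ‹LocallyOfFiniteType p›
  refine le_antisymm ((iInf_le _ (⟨⊤, trivial⟩ : {U : TopologicalSpace.Opens X // x ∈ U})).trans ?_)
    (le_iInf fun U => ?_)
  · exact topologicalKrullDim_subspace_le X _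
  · exact (Groth.Agent.S1618.result k X U.1 ⟨x, U.2⟩).ge

theorem smoothOfRelativeDimension_of_dim {k : Type u} [Field k] {X : Scheme.{u}} [IrreducibleSpace X]
    (p : X ⟶ Spec (CommRingCat.of k)) [Smooth p] {n : ℕ} (hdim : topologicalKrullDim X = n) :
    SmoothOfRelativeDimension n p := by
  refine ⟨fun x => ?_⟩
  obtain ⟨V, hV, U, hU, hxU, e, hstd⟩ := Smooth.exists_isStandardSmooth p x
  refine ⟨V, hV, U, hU, hxU, e, ?_⟩
  algebraize [(p.appLE V U e).hom]
  obtain ⟨ι, σ, hσ, hι, ⟨P⟩⟩ := ‹Algebra.IsStandardSmooth Γ(Spec (CommRingCat.of k), V) Γ(X, U)›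
  haveI : Algebra.IsStandardSmoothOfRelativeDimension P.dimension Γ(Spec (CommRingCat.of k), V) Γ(X, U) :=
    ⟨ι, σ, hσ, hι, P, rfl⟩
  suffices h : P.dimension = n by
    rw [← h]
    exact ‹Algebra.IsStandardSmoothOfRelativeDimension P.dimension Γ(Spec (CommRingCat.of k), V) Γ(X, U)›
  obtain ⟨z, hz⟩ : x ∈ Set.range hU.fromSpec := hU.range_fromSpec.ge hxU
  have h1 := LocalDimBC.fibreDimAt_Spec_of_isStandardSmooth P.dimension
    (R := Γ(Spec (CommRingCat.of k), V)) (A := Γ(X, U)) z
  have h2 : FlatMor.fibreDimAt (Spec.map (CommRingCat.ofHom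
      (algebraMap Γ(Spec (CommRingCat.of k), V) Γ(X, U)))) z = FlatMor.fibreDimAt p x := by
    rw [← hz, ← LocalDimBC.fibreDimAt_openImmersion_comp hU.fromSpec p z,
      ← IsAffineOpen.SpecMap_appLE_fromSpec p hV hU e, ← LocalDimBC.fibreDimAt_comp_openImmersion]
    rfl
  rw [h2, CMChart.fibreDimAt_eq_localDim, localDim_eq_dim p, hdim] at h1
  exact_mod_cast h1.symm

end Groth.Agent.SectRank
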