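import Groth.Agent.FlatDim.CutDim
import Groth.Agent.FlatDim.Comps
import Groth.Agent.FlatDim.BaseChange
import Groth.Agent.FlatDim.DimAdd
import Groth.Agent.LocalDimBC.Scheme
import Groth.Agent.LocalDimBC.Smooth
import Groth.Prelude.Def_RegImm

/-!
Dimension bounds: pulling back an immersion cut out by `c` equations drops dimensions by at most
`c`; dimensions add in products over a field.
-/

set_option autoImplicit false
set_option linter.style.haveILetI false
set_option backward.isDefEq.respectTransparency false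

universe u

open CategoryTheory CategoryTheory.Limits AlgebraicGeometry TopologicalSpace Topology

namespace Groth.Agent.SectRank

open Unibranch FlatDim DimFormula

variable {k : Type u} [Field k] {C X W : Scheme.{u}}

/-- A maximal point, below `ζ`, of the preimage of an immersion cut out by `c` equations. -/
theorem pdim_le_add_of_cut (q : C ⟶ Spec (CommRingCat.of k)) [LocallyOfFiniteType q]
    (π : C ⟶ X) (ι : W ⟶ X) {κ : RegImm.Kind} {c : ℕ} (hι : RegImm.IsRegularImmersionOfCodim κ c ι)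
    {ζ g : C} (hζg : ζ ⤳ g) (hg : π g ∈ Set.range ι)
    (hmax : ∀ y, ζ ⤳ y → y ⤳ g → π y ∈ Set.range ι → y = g) :
    WeilCoh.pdim C ζ ≤ WeilCoh.pdim C g + c := by
  haveI : IsLocallyNoetherian C := LocallyOfFiniteType.isLocallyNoetherian q
  obtain ⟨z, hz⟩ := hg
  obtain ⟨U, hzU, hc, rs, hlen, -, hker⟩ := hι.2 z
  have hgen := genLE_of_cut ι π U hc rs hker hζg (hz ▸ hzU) ⟨z, hz⟩ hmax
  rw [hlen] at hgen
  have h1 := DimFormula.hasChain_sub_of_genLE q (pdim_spec q ζ).2.1 c hζg hgen
  have h2 := h1.le (pdim_spec q g).1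
  omega

/-- A maximal point of a product over a field projects to maximal points and its dimension is the
sum of theirs. -/
theorem pdim_prod {A B : Scheme.{u}} (qa : A ⟶ Spec (CommRingCat.of k)) (qb : B ⟶ Spec (CommRingCat.of k))
    [LocallyOfFiniteType qa] [LocallyOfFiniteType qb] {ξ : ↥(pullback qa qb)} (hξ : IsMaxPt ξ) :
    IsMaxPt (pullback.fst qa qb ξ) ∧ IsMaxPt (pullback.snd qa qb ξ) ∧
      WeilCoh.pdim _ ξ = WeilCoh.pdim A (pullback.fst qa qb ξ) + WeilCoh.pdim B (pullback.snd qa qb ξ) := by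
  haveI : Flat qa := inferInstance
  haveI : Flat qb := inferInstance
  haveI : LocallyOfFiniteType (pullback.fst qa qb) := MorphismProperty.pullback_fst _ _ ‹_›
  haveI : Flat (pullback.fst qa qb) := MorphismProperty.pullback_fst _ _ ‹_›
  haveI : Flat (pullback.snd qa qb) := MorphismProperty.pullback_snd _ _ ‹_›
  refine ⟨isMaxPt_map _ hξ, isMaxPt_map _ hξ, ?_⟩
  obtain ⟨δ, hδ1, hδ2, hp⟩ := exists_pdim_eq (pullback.fst qa qb) qa ξ
  have hfx : IsFibMax (pullback.fst qa qb) ξ := fun z hz _ => hξ z hz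
  have hfy : IsFibMax qb (pullback.snd qa qb ξ) := fun z hz _ => isMaxPt_map _ hξ z hz
  have hsq : IsPullback (pullback.snd qa qb) (pullback.fst qa qb) qb qa :=
    (IsPullback.of_hasPullback qa qb).flip
  have h1 := LocalDimBC.fibreDimAt_of_isPullback qb qa _ _ hsq ξ
  rw [fibreDimAt_eq _ hfx hδ1 hδ2,
    fibreDimAt_eq qb hfy (pdim_spec qb _).1 (pdim_spec qb _).2.1] at h1
  have h2 : δ = WeilCoh.pdim B (pullback.snd qa qb ξ) := by exact_mod_cast h1
  rw [hp, h2]

/-- The generic point of a component of a locally closed subset. -/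
theorem exists_generic_component (q : C ⟶ Spec (CommRingCat.of k)) [LocallyOfFiniteType q] {R : Set C}
    (hR : IsLocallyClosed R) {Q : Set ↥R} (hQ : Q ∈ irreducibleComponents ↥R) :
    ∃ g ∈ R, topologicalKrullDim ↥Q = (WeilCoh.pdim C g : WithBot ℕ∞) ∧
      ∀ y ∈ R, y ⤳ g → y = g := by
  have hQc : IsClosed Q := isClosed_of_mem_irreducibleComponents Q hQ
  let img : Set C := Subtype.val '' Q
  have hirr : IsIrreducible img := hQ.1.image _ continuous_subtype_val.continuousOn
  obtain ⟨g, hg⟩ := quasiSober_iff _ |>.1 inferInstance hirr.closure isClosed_closure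
  obtain ⟨x₀, hx₀⟩ := hirr.nonempty
  have hgR : g ∈ R := by
    obtain ⟨O, F, hO, hF, rfl⟩ := hR
    have himg : img ⊆ O ∩ F := by rintro _ ⟨x, -, rfl⟩; exact x.2
    exact ⟨(hg.specializes (subset_closure hx₀)).mem_open hO (himg hx₀).1,
      closure_minimal (fun y hy => (himg hy).2) hF hg.mem⟩
  have hgQ : (⟨g, hgR⟩ : ↥R) ∈ Q := by
    rw [← hQc.closure_eq]
    exact closure_subtype.2 hg.mem
  have hspec : ∀ x ∈ Q, g ⤳ (x : C) := fun x hx => hg.specializes (subset_closure ⟨x, hx, rfl⟩)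
  have himgeq : img = closure {g} ∩ R := by
    refine Set.Subset.antisymm ?_ fun y hy => ⟨⟨y, hy.2⟩, ?_, rfl⟩
    · rintro _ ⟨x, hx, rfl⟩
      exact ⟨(hspec x hx).mem_closure, x.2⟩
    · rw [← hQc.closure_eq]
      exact closure_subtype.2 (closure_minimal (Set.singleton_subset_iff.2 hg.mem) isClosed_closure hy.1)
  have himg : IsLocallyClosed img := himgeq ▸ isClosed_closure.isLocallyClosed.inter hR
  refine ⟨g, hgR, ?_, fun y hy hyg => ?_⟩
  · rw [IsHomeomorph.topologicalKrullDim_eq _ ((IsEmbedding.subtypeVal).homeomorphImage Q).isHomeomorph]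
    refine le_antisymm ((FlatDim.dim_le_iff q himg).2 ?_)
      ((FlatDim.natCast_le_dim_iff q himg).2 ⟨g, ⟨_, hgQ, rfl⟩, le_rfl⟩)
    rintro _ ⟨x, hx, rfl⟩
    exact FlatDim.pdim_mono q (hspec x hx)
  · let y' : ↥R := ⟨y, hy⟩
    have hle : Q ⊆ closure {y'} := fun w hw =>
      closure_subtype.2 (by
        rw [Set.image_singleton]
        exact (hyg.trans (hspec w hw)).mem_closure)
    exact (hyg.antisymm (hspec y' (hQ.2 isIrreducible_singleton.closure hle (subset_closure rfl)))).eq

/-- A component of the preimage of an immersion cut out by `c` equations, inside a closure. -/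
theorem pdim_le_add_dim_of_component (q : C ⟶ Spec (CommRingCat.of k)) [LocallyOfFiniteType q]
    (π : C ⟶ X) (ι : W ⟶ X) {κ : RegImm.Kind} {c : ℕ} (hι : RegImm.IsRegularImmersionOfCodim κ c ι)
    {ζ g : C} (hζg : ζ ⤳ g) (hg : π g ∈ Set.range ι) (hmax : ∀ y, y ⤳ g → π y ∈ Set.range ι → y = g)
    {D : WithBot ℕ∞} (hD : D = (WeilCoh.pdim C g : WithBot ℕ∞)) :
    (WeilCoh.pdim C ζ : WithBot ℕ∞) ≤ D + c := by
  have h := pdim_le_add_of_cut q π ι hι hζg hg (fun y _ hy => hmax y hy)
  rw [hD]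
  exact_mod_cast h

end Groth.Agent.SectRank
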