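import Groth.Agent.SectRank.Algebra
import Groth.Agent.SectRank.RelDim
import Groth.Agent.S1676
import Groth.Agent.KoszulLib.SchNoeth
import Groth.Agent.KoszulLib.SchKer
import Groth.Prelude.Def_RegImm
import Mathlib.AlgebraicGeometry.Morphisms.Smooth

/-!
A section, which is a closed immersion, of a morphism smooth of relative dimension `n` is a regular
immersion of codimension `n`.
-/

set_option autoImplicit false
set_option linter.style.haveILetI false
set_option backward.isDefEq.respectTransparency false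
set_option backward.isDefEq.respectTransparency.types false

universe u

open CategoryTheory CategoryTheory.Limits AlgebraicGeometry TopologicalSpace Opposite

noncomputable section

namespace Groth.Agent.SectRank

lemma indep_of_quasi {B : Type u} [CommRing B] {c : ℕ} (f : Fin c → B) (hq : CAlgX.IsQuasiRegular f)
    (b : Fin c → B) (hb : ∑ j, b j * f j ∈ Ideal.span (Set.range f) ^ 2) (j : Fin c) :
    b j ∈ Ideal.span (Set.range f) := by
  classical
  let P : MvPolynomial (Fin c) B := ∑ j, MvPolynomial.C (b j) * MvPolynomial.X j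
  have hP : MvPolynomial.eval f P ∈ Ideal.span (Set.range f) ^ (1 + 1) := by simpa [P] using hb
  have hhom : P.IsHomogeneous 1 := MvPolynomial.IsHomogeneous.sum Finset.univ _ 1 fun k _ => by
    have h01 := (MvPolynomial.isHomogeneous_C (Fin c) (b k)).mul (MvPolynomial.isHomogeneous_X B k)
    rwa [zero_add] at h01
  have hc : P.coeff (Finsupp.single j 1) = b j := by
    simp only [P, MvPolynomial.coeff_sum, MvPolynomial.coeff_C_mul, MvPolynomial.coeff_X,
      Finsupp.single_left_inj one_ne_zero]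
    rw [Finset.sum_eq_single j (fun k _ hk => by simp [hk]) (by simp)]
    simp
  exact hc ▸ hq 1 P hhom hP (Finsupp.single j 1)

theorem isRegularImmersionOfCodim_of_section {X Y : Scheme.{u}} (n : ℕ) (f : X ⟶ Y)
    [SmoothOfRelativeDimension n f] (σ : Y ⟶ X) [IsClosedImmersion σ] (hσ : σ ≫ f = 𝟙 Y) :
    RegImm.IsRegularImmersionOfCodim RegImm.Kind.regular n σ := by
  haveI : Smooth f := SmoothOfRelativeDimension.smooth n f
  refine ⟨inferInstance, fun y => ?_⟩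
  obtain ⟨-, hreg⟩ := Groth.Agent.S1676.result f σ hσ
  obtain ⟨U1, hU1, hyU1, rs₁, hrs₁, hker₁⟩ := hreg y
  have hfσ : ∀ z, f (σ z) = z := fun z => by rw [← Scheme.Hom.comp_apply, hσ]; rfl
  obtain ⟨U0, hU0, V1, hV1, hxV1, e1, hstd1⟩ :=
    SmoothOfRelativeDimension.exists_isStandardSmoothOfRelativeDimension (n := n) (f := f) (σ y)
  obtain ⟨b, hbU1, hxb⟩ := hV1.exists_basicOpen_le (⟨σ y, hyU1⟩ : U1) hxV1
  let V0 : X.Opens := X.basicOpen b
  have hV0 : IsAffineOpen V0 := hV1.basicOpen b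
  have e0 : V0 ≤ f ⁻¹ᵁ U0 := (X.basicOpen_le b).trans e1
  have hstd : (f.appLE U0 V0 e0).hom.IsStandardSmoothOfRelativeDimension n := by
    letI : Algebra Γ(X, V1) Γ(X, V0) := (X.presheaf.map (homOfLE (X.basicOpen_le b)).op).hom.toAlgebra
    haveI : IsLocalization.Away b Γ(X, V0) := hV1.isLocalization_basicOpen b
    have h := (RingHom.isStandardSmoothOfRelativeDimension_stableUnderCompositionWithLocalizationAway n).right
      Γ(X, V0) b (f.appLE U0 V1 e1).hom hstd1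
    rw [← Scheme.Hom.appLE_map f e1 (homOfLE (X.basicOpen_le b)).op, CommRingCat.hom_comp]
    exact h
  have hyU0 : y ∈ U0 := by have h : f (σ y) ∈ U0 := e0 hxb; rwa [hfσ] at h
  obtain ⟨a, hale, hya⟩ := hU0.exists_basicOpen_le (⟨y, show y ∈ σ ⁻¹ᵁ V0 from hxb⟩ : σ ⁻¹ᵁ V0) hyU0
  let a' : Γ(X, V0) := (f.appLE U0 V0 e0).hom a
  let V : X.Opens := X.basicOpen a'
  have hV : IsAffineOpen V := hV0.basicOpen a'
  have hVeq : V = V0 ⊓ f ⁻¹ᵁ Y.basicOpen a := by
    show X.basicOpen ((X.presheaf.map (homOfLE e0).op).hom ((f.app U0).hom a)) = _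
    rw [Scheme.basicOpen_res, ← Scheme.preimage_basicOpen]
  have hW : σ ⁻¹ᵁ V = Y.basicOpen a := by
    ext z
    show σ z ∈ V ↔ z ∈ Y.basicOpen a
    rw [hVeq]
    show σ z ∈ V0 ∧ f (σ z) ∈ Y.basicOpen a ↔ z ∈ Y.basicOpen a
    rw [hfσ]
    exact ⟨fun h => h.2, fun h => ⟨hale h, h⟩⟩
  have hWU : σ ⁻¹ᵁ V ≤ U0 := hW.le.trans (Y.basicOpen_le a)
  have hVW : V ≤ f ⁻¹ᵁ (σ ⁻¹ᵁ V) := by rw [hW]; exact hVeq.le.trans inf_le_right
  have hyV : σ y ∈ V := by rw [hVeq]; exact ⟨hxb, by show f (σ y) ∈ Y.basicOpen a; rw [hfσ]; exact hya⟩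
  have hV1' : V ≤ U1 := (X.basicOpen_le a').trans hbU1
  haveI : Nonempty (σ ⁻¹ᵁ V) := ⟨⟨y, hyV⟩⟩
  haveI : Nontrivial Γ(Y, σ ⁻¹ᵁ V) := inferInstance
  -- the regular sequence on `V`
  letI := (X.presheaf.map (homOfLE hV1').op).hom.toAlgebra
  haveI : Module.Flat Γ(X, U1) Γ(X, V) := by
    have h := HasRingHomProperty.appLE @Flat (𝟙 X) inferInstance ⟨U1, hU1⟩ ⟨V, hV⟩ hV1'
    rw [Scheme.Hom.appLE, Scheme.Hom.id_app, Category.id_comp] at h
    exact h
  obtain ⟨hc, hkV⟩ := KoszulLib.ker_app_of_le σ ⟨U1, hU1⟩ inferInstance ⟨V, hV⟩ hV1'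
  let rs : List Γ(X, V) := rs₁.map (algebraMap Γ(X, U1) Γ(X, V))
  have hkrs : RingHom.ker (σ.app V).hom = Ideal.ofList rs := by
    refine hkV.trans ?_
    rw [show RingHom.ker (σ.app U1).hom = Ideal.ofList rs₁ from
      (σ.ker_apply ⟨U1, hU1⟩).symm.trans hker₁, Ideal.map_ofList]
    rfl
  have hne : Ideal.ofList rs ≠ ⊤ := hkrs ▸ RingHom.ker_ne_top (σ.app V).hom
  have hrs : RingTheory.Sequence.IsRegular Γ(X, V) rs := by
    refine ⟨hrs₁.toIsWeaklyRegular.of_flat, ?_⟩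
    rw [smul_eq_mul, Ideal.mul_top]
    exact hne.symm
  refine ⟨⟨V, hV⟩, hyV, hc, rs, ?_, hrs, hkrs⟩
  -- its length
  let φ : Γ(Y, U0) →+* Γ(Y, σ ⁻¹ᵁ V) := (Y.presheaf.map (homOfLE hWU).op).hom
  let g : Γ(Y, σ ⁻¹ᵁ V) →+* Γ(X, V) := (f.appLE (σ ⁻¹ᵁ V) V hVW).hom
  let π : Γ(X, V) →+* Γ(Y, σ ⁻¹ᵁ V) := (σ.app V).hom
  have hπg : ∀ b, π (g b) = b := fun b => by
    have key : ∀ (h : Y ⟶ Y) (e : σ ⁻¹ᵁ V ≤ h ⁻¹ᵁ (σ ⁻¹ᵁ V)), h = 𝟙 Y →
        (h.appLE (σ ⁻¹ᵁ V) (σ ⁻¹ᵁ V) e).hom b = b := by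
      rintro h e rfl
      rw [Scheme.Hom.appLE, Scheme.Hom.id_app, Category.id_comp]
      show (Y.presheaf.map (homOfLE _).op).hom b = b
      rw [show (homOfLE _ : σ ⁻¹ᵁ V ⟶ σ ⁻¹ᵁ V) = 𝟙 _ from Subsingleton.elim _ _, op_id,
        Y.presheaf.map_id]
      rfl
    show ((f.appLE (σ ⁻¹ᵁ V) V hVW) ≫ σ.app V).hom b = b
    rw [Scheme.Hom.app_eq_appLE, Scheme.Hom.appLE_comp_appLE]
    exact key _ _ hσ
  have eV : V ≤ f ⁻¹ᵁ U0 := (X.basicOpen_le a').trans e0
  letI : Algebra Γ(Y, U0) Γ(X, V) := (f.appLE U0 V eV).hom.toAlgebra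
  have hg : ∀ α, g (φ α) = algebraMap Γ(Y, U0) Γ(X, V) α := fun α => by
    show (Y.presheaf.map (homOfLE hWU).op ≫ f.appLE (σ ⁻¹ᵁ V) V hVW).hom α = _
    rw [Scheme.Hom.map_appLE]
    rfl
  haveI : Algebra.IsStandardSmoothOfRelativeDimension n Γ(Y, U0) Γ(X, V) := by
    letI : Algebra Γ(X, V0) Γ(X, V) := (X.presheaf.map (homOfLE (X.basicOpen_le a')).op).hom.toAlgebra
    haveI : IsLocalization.Away a' Γ(X, V) := hV0.isLocalization_basicOpen a'
    have h := (RingHom.isStandardSmoothOfRelativeDimension_stableUnderCompositionWithLocalizationAway n).right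
      Γ(X, V) a' (f.appLE U0 V0 e0).hom hstd
    show (f.appLE U0 V eV).hom.IsStandardSmoothOfRelativeDimension n
    rw [← Scheme.Hom.appLE_map f e0 (homOfLE (X.basicOpen_le a')).op, CommRingCat.hom_comp]
    exact h
  have ha : IsUnit (algebraMap Γ(Y, U0) Γ(X, V) a) := by
    show IsUnit ((f.appLE U0 V eV).hom a)
    rw [← Scheme.Hom.appLE_map f e0 (homOfLE (X.basicOpen_le a')).op]
    exact RingedSpace.isUnit_res_basicOpen X.toLocallyRingedSpace.toRingedSpace a'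
  have hden : ∀ x : Γ(Y, σ ⁻¹ᵁ V), ∃ (m : ℕ) (α : Γ(Y, U0)), φ a ^ m * x = φ α := fun x => by
    letI : Algebra Γ(Y, U0) Γ(Y, σ ⁻¹ᵁ V) := φ.toAlgebra
    haveI : IsLocalization.Away a Γ(Y, σ ⁻¹ᵁ V) :=
      hU0.isLocalization_of_eq_basicOpen a (homOfLE hWU) hW
    obtain ⟨m, α, hα⟩ := IsLocalization.Away.surj a x
    exact ⟨m, α, by rw [mul_comm]; exact hα⟩
  have hspan : Ideal.ofList rs = Ideal.span (Set.range rs.get) := by
    rw [Set.range_list_get]
  have hq : CAlgX.IsQuasiRegular rs.get := KoszulLib.quasi_seq_of RegImm.Kind.regular _ rs hrs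
  refine card_eq_relDim φ g π hπg hg a ha hden rs.get (hkrs.trans hspan) ?_
  intro c hc j
  rw [show RingHom.ker π = Ideal.span (Set.range rs.get) from hkrs.trans hspan] at hc ⊢
  exact indep_of_quasi rs.get hq c hc j

end Groth.Agent.SectRank
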