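import Groth.Agent.SectRank.RelDim

/-!
An irreducible scheme smooth of relative dimension `n` over a field has dimension `n`.
-/

set_option autoImplicit false
set_option linter.style.haveILetI false
set_option backward.isDefEq.respectTransparency false
set_option backward.isDefEq.respectTransparency.types false

universe u

open CategoryTheory CategoryTheory.Limits AlgebraicGeometry TopologicalSpace Opposite

noncomputable section

namespace Groth.Agent.SectRank

theorem topologicalKrullDim_of_smoothOfRelativeDimension {k : Type u} [Field k] {X : Scheme.{u}} [IrreducibleSpace X]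
    (p : X ⟶ Spec (CommRingCat.of k)) (n : ℕ) [SmoothOfRelativeDimension n p] : topologicalKrullDim X = n := by
  haveI : Smooth p := SmoothOfRelativeDimension.smooth n p
  obtain ⟨x⟩ := (inferInstance : Nonempty X)
  obtain ⟨V, hV, U, hU, hxU, e, hstd⟩ :=
    SmoothOfRelativeDimension.exists_isStandardSmoothOfRelativeDimension (n := n) (f := p) x
  algebraize [(p.appLE V U e).hom]
  obtain ⟨z, hz⟩ : x ∈ Set.range hU.fromSpec := hU.range_fromSpec.ge hxU
  have h1 := LocalDimBC.fibreDimAt_Spec_of_isStandardSmooth n
    (R := Γ(Spec (CommRingCat.of k), V)) (A := Γ(X, U)) z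
  have h2 : FlatMor.fibreDimAt (Spec.map (CommRingCat.ofHom
      (algebraMap Γ(Spec (CommRingCat.of k), V) Γ(X, U)))) z = FlatMor.fibreDimAt p x := by
    rw [← hz, ← LocalDimBC.fibreDimAt_openImmersion_comp hU.fromSpec p z,
      ← IsAffineOpen.SpecMap_appLE_fromSpec p hV hU e, ← LocalDimBC.fibreDimAt_comp_openImmersion]
    rfl
  rw [h2, CMChart.fibreDimAt_eq_localDim, localDim_eq_dim p] at h1
  exact h1

end Groth.Agent.SectRank
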