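import Mathlib.RingTheory.Smooth.StandardSmoothCotangent
import Mathlib.RingTheory.Ideal.Cotangent
import Mathlib.RingTheory.Ideal.Quotient.Operations
import Mathlib.LinearAlgebra.Dimension.Free
import Mathlib.LinearAlgebra.FreeModule.StrongRankCondition
import Mathlib.LinearAlgebra.InvariantBasisNumber

/-!
The kernel of a retraction of a smooth algebra of relative dimension `n`: any generators which are
independent modulo the square of the kernel are `n` in number.
-/

set_option autoImplicit false
set_option linter.style.haveILetI false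

universe u

namespace Groth.Agent.SectRank

variable {A₀ A B : Type u} [CommRing A₀] [CommRing A] [CommRing B] [Algebra A₀ B]

theorem card_eq_relDim {n c : ℕ} [Nontrivial A] [Algebra.IsStandardSmoothOfRelativeDimension n A₀ B]
    (φ : A₀ →+* A) (g : A →+* B) (π : B →+* A) (hπg : ∀ a, π (g a) = a)
    (hg : ∀ α, g (φ α) = algebraMap A₀ B α) (a : A₀) (ha : IsUnit (algebraMap A₀ B a))
    (hden : ∀ x : A, ∃ (m : ℕ) (α : A₀), φ a ^ m * x = φ α)
    (f : Fin c → B) (hf : RingHom.ker π = Ideal.span (Set.range f))
    (hind : ∀ b : Fin c → B, ∑ j, b j * f j ∈ RingHom.ker π ^ 2 → ∀ j, b j ∈ RingHom.ker π) :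
    c = n := by
  classical
  haveI : Nontrivial B := π.domain_nontrivial
  haveI : Algebra.IsStandardSmooth A₀ B :=
    Algebra.IsStandardSmoothOfRelativeDimension.isStandardSmooth n
  have hr1 : Module.finrank B Ω[B⁄A₀] = n := Module.finrank_eq_of_rank_eq
    (by rw [Algebra.IsStandardSmoothOfRelativeDimension.rank_kaehlerDifferential n])
  haveI : Module.Finite B Ω[B⁄A₀] := inferInstance
  let bΩ := Module.finBasisOfFinrankEq B Ω[B⁄A₀] hr1
  let I := RingHom.ker π
  have hItop : I ≠ ⊤ := RingHom.ker_ne_top π
  haveI : Nontrivial (B ⧸ I) := Ideal.Quotient.nontrivial_iff.mpr hItop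
  have hI : ∀ b, b - g (π b) ∈ I := fun b => by rw [RingHom.mem_ker, map_sub, hπg, sub_self]
  have hfI : ∀ j, f j ∈ I := fun j => by
    show f j ∈ RingHom.ker π
    rw [hf]; exact Ideal.subset_span ⟨j, rfl⟩
  have hgen : ∀ z ∈ I, ∃ r : Fin c → B, ∑ j, r j * f j = z := fun z hz => by
    have hz' : z ∈ Ideal.span (Set.range f) := hf ▸ hz
    exact Ideal.mem_span_range_iff_exists_fun.mp hz'
  let δ : B → Fin n → B ⧸ I := fun b i =>
    Ideal.Quotient.mk I (bΩ.repr (KaehlerDifferential.D A₀ B b) i)
  have hgδ : ∀ x : A, KaehlerDifferential.D A₀ B (g x) = 0 := fun x => by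
    obtain ⟨m, α, hα⟩ := hden x
    have h : algebraMap A₀ B a ^ m • g x = algebraMap A₀ B α := by
      rw [smul_eq_mul, ← hg, ← hg, ← map_pow, ← map_mul, hα]
    have h' := congrArg (KaehlerDifferential.D A₀ B) h
    rw [smul_eq_mul, Derivation.leibniz, ← map_pow, Derivation.map_algebraMap,
      Derivation.map_algebraMap, smul_zero, add_zero] at h'
    exact (IsUnit.smul_eq_zero (by rw [map_pow]; exact ha.pow m)).mp h'
  apply le_antisymm
  · -- c ≤ n
    let D₀ : B →ₗ[A₀] I.Cotangent :=
      { toFun := fun b => I.toCotangent ⟨b - g (π b), hI b⟩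
        map_add' := fun x y => by
          rw [← map_add]
          exact congrArg I.toCotangent (Subtype.ext (by simp only [map_add, Submodule.coe_add]; ring))
        map_smul' := fun α b => by
          rw [RingHom.id_apply, ← algebraMap_smul B α (I.toCotangent _), ← map_smul]
          refine congrArg I.toCotangent (Subtype.ext ?_)
          simp only [SetLike.val_smul, smul_eq_mul, Algebra.smul_def, map_mul]
          rw [← hg, hπg]; ring }
    let D : Derivation A₀ B I.Cotangent := Derivation.mk' D₀ fun x y => by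
      show I.toCotangent _ = x • I.toCotangent _ + y • I.toCotangent _
      rw [← map_smul, ← map_smul, ← map_add, Ideal.toCotangent_eq]
      simp only [Submodule.coe_add, SetLike.val_smul, smul_eq_mul]
      have e : x * y - g (π (x * y)) - (x * (y - g (π y)) + y * (x - g (π x))) =
          -((x - g (π x)) * (y - g (π y))) := by rw [map_mul, map_mul]; ring
      rw [e, pow_two]
      exact neg_mem (Ideal.mul_mem_mul (hI x) (hI y))
    have hsq : ∀ i : Fin n, ∃ r : Fin c → B,
        D.liftKaehlerDifferential (bΩ i) = ∑ j, r j • I.toCotangent ⟨f j, hfI j⟩ := fun i => by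
      obtain ⟨⟨z, hz⟩, hze⟩ := I.toCotangent_surjective (D.liftKaehlerDifferential (bΩ i))
      obtain ⟨r, hr⟩ := hgen z hz
      refine ⟨r, ?_⟩
      rw [← hze, ← Finset.sum_congr rfl (fun j _ => map_smul I.toCotangent (r j) ⟨f j, hfI j⟩),
        ← map_sum]
      exact congrArg I.toCotangent (Subtype.ext (by simp [← hr]))
    choose r hr using hsq
    refine le_of_fin_surjective (B ⧸ I) (Fintype.linearCombination (B ⧸ I)
      fun i j => Ideal.Quotient.mk I (r i j)) ?_
    rw [← LinearMap.range_eq_top, eq_top_iff, ← (Pi.basisFun (B ⧸ I) (Fin c)).span_eq, Submodule.span_le]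
    rintro _ ⟨k, rfl⟩
    let β : Fin n → B := fun i => bΩ.repr (KaehlerDifferential.D A₀ B (f k)) i
    refine ⟨fun i => Ideal.Quotient.mk I (β i), funext fun j => ?_⟩
    have h1 : D (f k) = I.toCotangent ⟨f k, hfI k⟩ := congrArg I.toCotangent (Subtype.ext (by
      show f k - g (π (f k)) = f k
      rw [RingHom.mem_ker.mp (hfI k), map_zero, sub_zero]))
    have h2 : D (f k) = ∑ i, β i • ∑ j, r i j • I.toCotangent ⟨f j, hfI j⟩ := by
      rw [← D.liftKaehlerDifferential_comp_D (f k),
        show KaehlerDifferential.D A₀ B (f k) = ∑ i, β i • bΩ i from (bΩ.sum_repr _).symm, map_sum]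
      exact Finset.sum_congr rfl fun i _ => by rw [map_smul, hr]
    rw [h1] at h2
    simp only [Finset.smul_sum, smul_smul] at h2
    rw [Finset.sum_comm] at h2
    simp only [← Finset.sum_smul, ← map_smul, ← map_sum] at h2
    have h3 := hind (fun j => (∑ i, β i * r i j) - if j = k then 1 else 0) (by
      have := (Ideal.toCotangent_eq I).mp h2.symm
      simpa [sub_mul, Finset.sum_sub_distrib] using this) j
    rw [← Ideal.Quotient.eq_zero_iff_mem, map_sub, sub_eq_zero, map_sum] at h3
    simp only [Fintype.linearCombination_apply, Finset.sum_apply, Pi.smul_apply, smul_eq_mul,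
      ← map_mul, Pi.basisFun_apply, Pi.single_apply]
    rw [h3]
    split_ifs <;> simp
  · -- n ≤ c
    refine le_of_fin_surjective (B ⧸ I) (Fintype.linearCombination (B ⧸ I) fun j => δ (f j)) ?_
    rw [← LinearMap.range_eq_top]
    set R := LinearMap.range (Fintype.linearCombination (B ⧸ I) fun j => δ (f j)) with hR
    have hmem : ∀ b, δ b ∈ R := fun b => by
      obtain ⟨r, hr⟩ := hgen _ (hI b)
      refine ⟨fun j => Ideal.Quotient.mk I (r j), funext fun i => ?_⟩
      have h : KaehlerDifferential.D A₀ B b =
          ∑ j, (r j • KaehlerDifferential.D A₀ B (f j) + f j • KaehlerDifferential.D A₀ B (r j)) := by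
        simp only [← Derivation.leibniz, ← map_sum, hr, map_sub, hgδ, sub_zero]
      show _ = Ideal.Quotient.mk I (bΩ.repr (KaehlerDifferential.D A₀ B b) i)
      rw [h]
      simp [δ, Fintype.linearCombination_apply, Ideal.Quotient.eq_zero_iff_mem.mpr (hfI _),
        Finset.sum_add_distrib]
    rw [eq_top_iff, ← (Pi.basisFun (B ⧸ I) (Fin n)).span_eq, Submodule.span_le]
    rintro _ ⟨i, rfl⟩
    let T : Ω[B⁄A₀] →ₗ[B] Fin n → B ⧸ I :=
      LinearMap.pi fun i => (Ideal.Quotient.mkₐ B I).toLinearMap ∘ₗ bΩ.coord i
    have hT : ∀ ω, T ω ∈ R := fun ω => by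
      have hω : ω ∈ Submodule.span B (Set.range (KaehlerDifferential.D A₀ B)) := by
        rw [KaehlerDifferential.span_range_derivation]; trivial
      induction hω using Submodule.span_induction with
      | mem x hx => obtain ⟨b, rfl⟩ := hx; exact hmem b
      | zero => simp
      | add x y _ _ hx hy => rw [map_add]; exact add_mem hx hy
      | smul b x _ hx =>
        rw [map_smul, ← algebraMap_smul (B ⧸ I) b (T x)]
        exact R.smul_mem _ hx
    have heq : T (bΩ i) = Pi.basisFun (B ⧸ I) (Fin n) i := by
      funext i'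
      simp [T, Finsupp.single_apply, Pi.single_apply, eq_comm]
    rw [SetLike.mem_coe, ← heq]
    exact hT (bΩ i)

end Groth.Agent.SectRank
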